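import Mathlib
import Groth.Agent.H19Grp.Neutral
set_option linter.style.haveILetI false
set_option backward.isDefEq.respectTransparency false

/-! Affine neighbourhoods of profinite sets of rational points in group schemes. -/

universe u

open CategoryTheory CategoryTheory.Limits MonoidalCategory CartesianMonoidalCategory MonObj GrpObj
  AlgebraicGeometry

namespace Groth.Agent.H23Dom.AffNbhd

variable {k : Type u} [Field k]


/-- The point of a rational point. -/
noncomputable def pt {G : Over (Spec (CommRingCat.of k))} (g : 𝟙_ (Over (Spec (CommRingCat.of k))) ⟶ G) : G.left := g.left (IsLocalRing.closedPoint k)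

theorem pt_comp {G G' : Over (Spec (CommRingCat.of k))} (g : 𝟙_ (Over (Spec (CommRingCat.of k))) ⟶ G) (φ : G ⟶ G') : pt (g ≫ φ) = φ.left (pt g) := rfl

variable {G : Over (Spec (CommRingCat.of k))} [GrpObj G]

/-- Left translation by a rational point. -/
noncomputable def lam (g : 𝟙_ (Over (Spec (CommRingCat.of k))) ⟶ G) : G ⟶ G := (toUnit G ≫ g) * 𝟙 G

/-- Right translation by a rational point. -/
noncomputable def rho (g : 𝟙_ (Over (Spec (CommRingCat.of k))) ⟶ G) : G ⟶ G := 𝟙 G * (toUnit G ≫ g)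

theorem comp_lam (g : 𝟙_ (Over (Spec (CommRingCat.of k))) ⟶ G) {T : Over (Spec (CommRingCat.of k))} (x : T ⟶ G) :
    x ≫ lam g = (toUnit T ≫ g) * x := by
  rw [lam, MonObj.comp_mul, Category.comp_id, ← Category.assoc, toUnit_unique (x ≫ toUnit G) (toUnit T)]

theorem comp_rho (g : 𝟙_ (Over (Spec (CommRingCat.of k))) ⟶ G) {T : Over (Spec (CommRingCat.of k))} (x : T ⟶ G) :
    x ≫ rho g = x * (toUnit T ≫ g) := by
  rw [rho, MonObj.comp_mul, Category.comp_id, ← Category.assoc, toUnit_unique (x ≫ toUnit G) (toUnit T)]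

instance isIso_lam (g : 𝟙_ (Over (Spec (CommRingCat.of k))) ⟶ G) : IsIso (lam g) := by
  refine ⟨lam g⁻¹, ?_, ?_⟩ <;>
  · rw [comp_lam, lam, ← _root_.mul_assoc, GrpObj.comp_inv]
    simp

instance isIso_rho (g : 𝟙_ (Over (Spec (CommRingCat.of k))) ⟶ G) : IsIso (rho g) := by
  refine ⟨rho g⁻¹, ?_, ?_⟩ <;>
  · rw [comp_rho, rho, _root_.mul_assoc, GrpObj.comp_inv]
    simp

/-- The homeomorphism underlying an automorphism. -/
noncomputable def homeo (φ : G ⟶ G) [IsIso φ] : G.left ≃ₜ G.left :=
  ((Over.forget _).mapIso (asIso φ)).hom.homeomorph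

theorem homeo_apply (φ : G ⟶ G) [IsIso φ] (x : G.left) : homeo φ x = φ.left x := rfl

theorem homeo_component {α : Type u} [TopologicalSpace α] (e : α ≃ₜ α) (x : α) :
    e '' connectedComponent x = connectedComponent (e x) := by
  refine (e.continuous.image_connectedComponent_subset x).antisymm fun y hy => ⟨e.symm y, ?_, e.apply_symm_apply y⟩
  have := e.symm.continuous.image_connectedComponent_subset (e x) ⟨y, hy, rfl⟩
  rwa [e.symm_apply_apply] at this

theorem pt_one : pt (1 : 𝟙_ (Over (Spec (CommRingCat.of k))) ⟶ G) = H19Grp.ept G := by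
  rw [Hom.one_def, toUnit_unique (toUnit (𝟙_ (Over (Spec (CommRingCat.of k))))) (𝟙 _), Category.id_comp]
  rfl

/-- Left translation moves the unit component to the component of the point. -/
theorem lam_component (g : 𝟙_ (Over (Spec (CommRingCat.of k))) ⟶ G) :
    homeo (lam g) '' connectedComponent (H19Grp.ept G) = connectedComponent (pt g) := by
  rw [homeo_component, homeo_apply, ← pt_one, ← pt_comp, comp_lam, _root_.mul_one,
    toUnit_unique (toUnit (𝟙_ (Over (Spec (CommRingCat.of k))))) (𝟙 _), Category.id_comp]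

theorem rho_pt (g h : 𝟙_ (Over (Spec (CommRingCat.of k))) ⟶ G) : (rho h).left (pt g) = pt (g * h) := by
  rw [← pt_comp, comp_rho, toUnit_unique (toUnit (𝟙_ (Over (Spec (CommRingCat.of k))))) (𝟙 _), Category.id_comp]

theorem lam_pt (g h : 𝟙_ (Over (Spec (CommRingCat.of k))) ⟶ G) : (lam g).left (pt h) = pt (g * h) := by
  rw [← pt_comp, comp_lam, toUnit_unique (toUnit (𝟙_ (Over (Spec (CommRingCat.of k))))) (𝟙 _), Category.id_comp]

theorem mem_basicOpen_iff {X : Scheme.{u}} {V : X.Opens} (hV : IsAffineOpen V) {y : X} (hy : y ∈ V)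
    (f : Γ(X, V)) : y ∈ X.basicOpen f ↔ f ∉ (hV.primeIdealOf ⟨y, hy⟩).asIdeal := by
  conv_lhs => rw [show y = hV.fromSpec (hV.primeIdealOf ⟨y, hy⟩) from (hV.fromSpec_primeIdealOf ⟨y, hy⟩).symm]
  rw [← Scheme.Hom.mem_preimage, hV.fromSpec_preimage_basicOpen]
  exact Iff.rfl

section Jacobson

variable [JacobsonSpace G.left]
  (hrat : ∀ x : G.left, IsClosed ({x} : Set G.left) → ∃ g : 𝟙_ (Over (Spec (CommRingCat.of k))) ⟶ G, pt g = x)

include hrat in
theorem exists_pt_mem {Z : Set G.left} (hZ : IsLocallyClosed Z) (hne : Z.Nonempty) :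
    ∃ g : 𝟙_ (Over (Spec (CommRingCat.of k))) ⟶ G, pt g ∈ Z ∧ IsClosed ({pt g} : Set G.left) := by
  obtain ⟨x, hx, hxc⟩ := nonempty_inter_closedPoints hne hZ
  obtain ⟨g, rfl⟩ := hrat x hxc
  exact ⟨g, hx, hxc⟩

include hrat in
theorem isIrreducible_component (x : G.left) : IsIrreducible (connectedComponent x) := by
  obtain ⟨g, hg, -⟩ := exists_pt_mem hrat isClosed_connectedComponent.isLocallyClosed
    ⟨x, mem_connectedComponent⟩
  rw [connectedComponent_eq hg, ← lam_component g]
  exact (H19Grp.isIrreducible_component G).image _ (homeo (lam g)).continuous.continuousOn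

/-- The generic point of the component of a point. -/
noncomputable def eta (x : G.left) : G.left :=
  (isIrreducible_component hrat x).genericPoint

theorem isGenericPoint_eta (x : G.left) : IsGenericPoint (eta hrat x) (connectedComponent x) := by
  have := (isIrreducible_component hrat x).isGenericPoint_genericPoint_closure
  rwa [isClosed_connectedComponent.closure_eq] at this

theorem eta_specializes (x : G.left) : eta hrat x ⤳ x :=
  (isGenericPoint_eta hrat x).specializes mem_connectedComponent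

theorem eta_eq_of_mem {x y : G.left} (h : y ∈ connectedComponent x) : eta hrat y = eta hrat x := by
  refine (isGenericPoint_eta hrat y).eq ?_
  rw [← connectedComponent_eq h]
  exact isGenericPoint_eta hrat x

theorem eta_of_generalizes {x y : G.left} (h : y ⤳ x) : eta hrat y = eta hrat x := by
  refine (eta_eq_of_mem hrat (x := y) ?_).symm
  exact isClosed_connectedComponent.closure_subset_iff.2
    (Set.singleton_subset_iff.2 mem_connectedComponent) h.mem_closure

theorem eta_rho {x : G.left} {h : 𝟙_ (Over (Spec (CommRingCat.of k))) ⟶ G}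
    (hh : pt h ∈ connectedComponent (H19Grp.ept G)) :
    eta hrat ((rho h).left x) = eta hrat x := by
  obtain ⟨g, hg, -⟩ := exists_pt_mem hrat isClosed_connectedComponent.isLocallyClosed
    ⟨x, mem_connectedComponent⟩
  have h1 : pt (g * h) ∈ connectedComponent (pt g) := by
    rw [← lam_component g]
    exact ⟨pt h, hh, (homeo_apply (lam g) (pt h)).trans (lam_pt g h)⟩
  have h2 : (rho h).left x ∈ connectedComponent (pt (g * h)) := by
    rw [← rho_pt, ← homeo_apply, ← homeo_apply (rho h), ← homeo_component]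
    exact ⟨x, by rw [← connectedComponent_eq hg]; exact mem_connectedComponent, rfl⟩
  rw [eta_eq_of_mem hrat h2, eta_eq_of_mem hrat h1, eta_eq_of_mem hrat hg]

include hrat in
/-- The saturation of an open is open. -/
theorem isOpen_saturation {O : Set G.left} (hO : IsOpen O) : IsOpen {x | eta hrat x ∈ O} := by
  refine isOpen_iff_forall_mem_open.2 fun x hx => ?_
  obtain ⟨g, hg, hgc⟩ := exists_pt_mem hrat (isClosed_closure (s := {x})).isLocallyClosed
    (Set.singleton_nonempty x).closure
  have hxg : x ⤳ pt g := specializes_iff_mem_closure.2 hg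
  have hne : ((homeo (lam g)) ⁻¹' O ∩ connectedComponent (H19Grp.ept G)).Nonempty := by
    have : eta hrat x ∈ homeo (lam g) '' connectedComponent (H19Grp.ept G) := by
      rw [lam_component, eta_of_generalizes hrat hxg]
      exact (isGenericPoint_eta hrat (pt g)).mem
    obtain ⟨y, hy, e⟩ := this
    exact ⟨y, show homeo (lam g) y ∈ O from e ▸ hx, hy⟩
  obtain ⟨h, ⟨hhO, hhH⟩, -⟩ := exists_pt_mem hrat
    (((hO.preimage (homeo (lam g)).continuous).isLocallyClosed).inter
      isClosed_connectedComponent.isLocallyClosed) hne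
  have hhO : homeo (lam g) (pt h) ∈ O := hhO
  rw [homeo_apply, lam_pt, ← rho_pt] at hhO
  refine ⟨(rho h).left ⁻¹' O, fun y hy => ?_, hO.preimage (rho h).left.continuous, ?_⟩
  · show eta hrat y ∈ O
    rw [← eta_rho hrat hhH (x := y)]
    exact (eta_specializes hrat _).mem_open hO hy
  · exact (hxg.map (rho h).left.continuous).mem_open hO hhO

include hrat in
theorem eq_eta_of_specializes {x y : G.left} (h : y ⤳ eta hrat x) : y = eta hrat x := by
  refine Specializes.antisymm ?_ h |>.eq.symm
  rw [← eta_eq_of_mem hrat (isGenericPoint_eta hrat x).mem]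
  rw [← eta_of_generalizes hrat h]
  exact eta_specializes hrat y

include hrat in
/-- The saturation of a quasi-compact open is clopen. -/
theorem isClopen_saturation [IsSeparated G.hom] (O : G.left.Opens) (hO : IsAffineOpen O) :
    IsClopen {x | eta hrat x ∈ O} := by
  refine ⟨?_, isOpen_saturation hrat O.2⟩
  rw [← isOpen_compl_iff]
  refine isOpen_iff_forall_mem_open.2 fun x hx => ?_
  obtain ⟨_, ⟨V, hV, rfl⟩, hxV, -⟩ :=
    G.left.isBasis_affineOpens.exists_subset_of_mem_open (Set.mem_univ (eta hrat x)) isOpen_univ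
  haveI : G.left.IsSeparated := ⟨by
    rw [← terminal.comp_from G.hom]
    infer_instance⟩
  have hVO : IsAffineOpen (V ⊓ O) := hV.inf hO
  obtain ⟨s, hcov⟩ := hVO.isCompact.elim_finite_subcover
    (fun f : {f : Γ(G.left, V) // G.left.basicOpen f ≤ V ⊓ O} => (G.left.basicOpen f.1 : Set G.left))
    (fun f => (G.left.basicOpen f.1).2) fun y hy => by
      obtain ⟨f, hf, hyf⟩ := hV.exists_basicOpen_le (V := V ⊓ O) ⟨y, hy⟩ hy.1
      exact Set.mem_iUnion.2 ⟨⟨f, hf⟩, hyf⟩
  let p := hV.primeIdealOf ⟨eta hrat x, hxV⟩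
  have hmin : ∀ q : PrimeSpectrum Γ(G.left, V), q.asIdeal ≤ p.asIdeal → q = p := by
    intro q hq
    apply hV.fromSpec.isOpenEmbedding.injective
    rw [hV.fromSpec_primeIdealOf]
    refine eq_eta_of_specializes hrat ?_
    rw [show eta hrat x = IsAffineOpen.fromSpec hV p from (IsAffineOpen.fromSpec_primeIdealOf hV ⟨eta hrat x, hxV⟩).symm]
    exact ((PrimeSpectrum.le_iff_specializes _ _).1 hq).map hV.fromSpec.continuous
  have key : ∀ f ∈ s, ∃ t ∉ p.asIdeal, IsNilpotent (t * f.1) := by
    rintro ⟨f, hfle⟩ hf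
    have hfp : f ∈ p.asIdeal := by
      by_contra hf'
      exact hx (hfle ((mem_basicOpen_iff hV hxV f).2 hf')).2
    by_contra hcon
    push Not at hcon
    obtain ⟨q, hq, hdis⟩ := Ideal.exists_le_prime_disjoint (⊥ : Ideal Γ(G.left, V))
      (p.asIdeal.primeCompl ⊔ Submonoid.powers f) (Set.disjoint_left.2 fun z hz hz' => by
        obtain ⟨t, ht, _, ⟨n, rfl⟩, rfl⟩ := Submonoid.mem_sup.1 hz'
        refine hcon t ht ⟨n + 1, ?_⟩
        rw [mul_pow, pow_succ' t, pow_succ f, show t * t ^ n * (f ^ n * f) = t ^ n * f * (t * f ^ n) by ring,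
          show t * f ^ n = 0 from hz, mul_zero])
    have hqp : q ≤ p.asIdeal := fun z hz => by
      by_contra hz'
      exact Set.disjoint_left.1 hdis.2 hz (Submonoid.mem_sup_left hz')
    have := hmin ⟨q, hq⟩ hqp
    exact Set.disjoint_left.1 hdis.2 (show f ∈ q by rw [← this] at hfp; exact hfp)
      (Submonoid.mem_sup_right (Submonoid.mem_powers f))
  choose t ht htn using key
  classical
  let d : Γ(G.left, V) := ∏ f : {g // g ∈ s}, t f.1 f.2
  have hd : d ∉ p.asIdeal := fun h => by
    obtain ⟨f, -, hf⟩ := (Ideal.IsPrime.prod_mem_iff).1 h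
    exact ht _ f.2 hf
  refine ⟨{y | eta hrat y ∈ G.left.basicOpen d}, fun y hy hy' => ?_,
    isOpen_saturation hrat (G.left.basicOpen d).2, (mem_basicOpen_iff hV hxV d).2 hd⟩
  have hyV : eta hrat y ∈ V := G.left.basicOpen_le d hy
  obtain ⟨f, hf, hyf⟩ := Set.mem_iUnion₂.1 (hcov (⟨hyV, hy'⟩ : eta hrat y ∈ V ⊓ O))
  have h1 := (mem_basicOpen_iff hV hyV _).1 hyf
  have h2 := (mem_basicOpen_iff hV hyV _).1 hy
  obtain ⟨n, hn⟩ := htn f hf
  have h3 : t f hf * f.1 ∈ (hV.primeIdealOf ⟨_, hyV⟩).asIdeal :=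
    Ideal.IsPrime.mem_of_pow_mem inferInstance n (hn ▸ zero_mem _)
  rcases Ideal.IsPrime.mem_or_mem inferInstance h3 with h | h
  · exact h2 (Ideal.mem_of_dvd _ (Finset.dvd_prod_of_mem _ (Finset.mem_univ (⟨f, hf⟩ : {g // g ∈ s}))) h)
  · exact h1 h

theorem isAffineOpen_inf_clopen {X : Scheme.{u}} {O : X.Opens} (hO : IsAffineOpen O) (D : X.Opens)
    (hD : IsClosed (D : Set X)) : IsAffineOpen (O ⊓ D) := by
  haveI : IsAffine (O : Scheme.{u}) := hO
  haveI : IsClosedImmersion (X.homOfLE (inf_le_left : O ⊓ D ≤ O)) := by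
    refine IsClosedImmersion.of_isPreimmersion _ ?_
    have : Set.range (X.homOfLE (inf_le_left : O ⊓ D ≤ O)) = O.ι ⁻¹' (D : Set X) := by
      ext z
      constructor
      · rintro ⟨w, rfl⟩
        rw [Set.mem_preimage, ← Scheme.Hom.comp_apply, Scheme.homOfLE_ι]
        exact w.2.2
      · intro hz
        exact ⟨⟨z.1, z.2, hz⟩, O.ι.isOpenEmbedding.injective (by rw [← Scheme.Hom.comp_apply, Scheme.homOfLE_ι]; rfl)⟩
    rw [this]
    exact hD.preimage O.ι.continuous
  exact isAffine_of_isAffineHom (X.homOfLE (inf_le_left : O ⊓ D ≤ O))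

theorem isClosed_range_section {X : Over (Spec (CommRingCat.of k))} [IsSeparated X.hom]
    (g : 𝟙_ (Over (Spec (CommRingCat.of k))) ⟶ X) : IsClosed ({pt g} : Set X.left) := by
  haveI : Subsingleton ↥(Spec (CommRingCat.of k)) := inferInstanceAs (Subsingleton (PrimeSpectrum k))
  haveI : IsClosedImmersion g.left := isClosedImmersion_of_comp_eq_id X.hom _ (Over.w g)
  have h : Set.range g.left = {pt g} := by
    refine Set.Subset.antisymm ?_ (Set.singleton_subset_iff.2 ⟨_, rfl⟩)
    rintro _ ⟨z, rfl⟩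
    exact congrArg g.left (@Subsingleton.elim (PrimeSpectrum k) _ z (IsLocalRing.closedPoint k))
  exact h ▸ g.left.isClosedEmbedding.isClosed_range

end Jacobson

end Groth.Agent.H23Dom.AffNbhd
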