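import Mathlib
import Groth.Agent.H23Dom.AffNbhd
import Groth.Agent.H19Grp.Diagonal
set_option linter.style.haveILetI false
set_option backward.isDefEq.respectTransparency false

/-! An affine open containing the image of a profinite set in a group scheme. -/

universe u

open CategoryTheory CategoryTheory.Limits MonoidalCategory CartesianMonoidalCategory MonObj GrpObj
  AlgebraicGeometry

namespace Groth.Agent.H23Dom.AffNbhd

variable {k : Type u} [Field k]

theorem exists_sub_mem_prime {A : Type u} [CommRing A] [Algebra k A]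
    (hA : ∀ s : Finset A, ∃ (B : Subalgebra k A) (n : ℕ), (↑s : Set A) ⊆ (B : Set A) ∧ Nonempty (B ≃ₐ[k] (Fin n → k)))
    (p : Ideal A) [p.IsPrime] (a : A) : ∃ c : k, a - algebraMap k A c ∈ p := by
  classical
  obtain ⟨B, n, hB, ⟨e⟩⟩ := hA {a}
  have haB : a ∈ B := hB (by simp)
  have h0 : ∏ i : Fin n, ((⟨a, haB⟩ : B) - algebraMap k B (e ⟨a, haB⟩ i)) = 0 := by
    refine e.injective (funext fun j => ?_)
    rw [map_prod, map_zero, Finset.prod_apply, Pi.zero_apply]
    refine Finset.prod_eq_zero (Finset.mem_univ j) ?_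
    rw [map_sub, AlgEquiv.commutes, Pi.sub_apply]
    exact sub_self _
  have h1 : ∏ i : Fin n, (a - algebraMap k A (e ⟨a, haB⟩ i)) ∈ p := by
    have := congrArg B.val h0
    rw [map_prod, map_zero] at this
    rw [show ∏ i : Fin n, (a - algebraMap k A (e ⟨a, haB⟩ i)) = 0 from this]
    exact zero_mem _
  obtain ⟨i, -, hi⟩ := (Ideal.IsPrime.prod_mem_iff).1 h1
  exact ⟨_, hi⟩

theorem exists_augmentation {A : Type u} [CommRing A] [Algebra k A] (p : Ideal A) [p.IsPrime]
    (h : ∀ a, ∃ c : k, a - algebraMap k A c ∈ p) : ∃ π : A →ₐ[k] k, RingHom.ker π.toRingHom = p := by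
  have hbij : Function.Bijective (Algebra.ofId k (A ⧸ p)) := by
    refine ⟨(algebraMap k (A ⧸ p)).injective, fun y => ?_⟩
    obtain ⟨a, rfl⟩ := Ideal.Quotient.mk_surjective y
    obtain ⟨c, hc⟩ := h a
    exact ⟨c, ((Ideal.Quotient.eq).2 hc).symm⟩
  let e := (AlgEquiv.ofBijective _ hbij).symm
  refine ⟨(e : (A ⧸ p) →ₐ[k] k).comp (Ideal.Quotient.mkₐ k p), ?_⟩
  ext a
  rw [RingHom.mem_ker, ← Ideal.Quotient.eq_zero_iff_mem]
  exact map_eq_zero_iff e e.injective

variable {G : Over (Spec (CommRingCat.of k))} [GrpObj G] [JacobsonSpace G.left]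

theorem exists_affine_nbhd
    (hrat : ∀ x : G.left, IsClosed ({x} : Set G.left) → ∃ g : 𝟙_ (Over (Spec (CommRingCat.of k))) ⟶ G, pt g = x)
    (A : Type u) [CommRing A] [Algebra k A]
    (hA : ∀ s : Finset A, ∃ (B : Subalgebra k A) (n : ℕ), (↑s : Set A) ⊆ (B : Set A) ∧ Nonempty (B ≃ₐ[k] (Fin n → k)))
    (f : Spec (CommRingCat.of A) ⟶ G.left) (hf : f ≫ G.hom = Spec.map (CommRingCat.ofHom (algebraMap k A))) :
    ∃ U : G.left.Opens, IsAffineOpen U ∧ Set.range ⇑f ⊆ (U : Set G.left) := by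
  classical
  haveI : Subsingleton ↥(Spec (CommRingCat.of k)) := inferInstanceAs (Subsingleton (PrimeSpectrum k))
  haveI : IsSeparated G.hom := (H19Grp.isSeparated_iff_isClosedImmersion_one G).mpr
    (isClosedImmersion_of_comp_eq_id G.hom _ (Over.w η[G]))
  let T : Over (Spec (CommRingCat.of k)) := Over.mk (Spec.map (CommRingCat.ofHom (algebraMap k A)))
  let F : T ⟶ G := Over.homMk f hf
  -- the points of `T`
  have hpts : ∀ p : Spec (CommRingCat.of A), ∃ (π : A →ₐ[k] k) (sp : 𝟙_ (Over (Spec (CommRingCat.of k))) ⟶ T),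
      sp.left = Spec.map (CommRingCat.ofHom π.toRingHom) ∧ RingHom.ker π.toRingHom = p.asIdeal ∧ pt sp = p := by
    intro p
    obtain ⟨π, hπ⟩ := exists_augmentation p.asIdeal (exists_sub_mem_prime hA p.asIdeal)
    have w : Spec.map (CommRingCat.ofHom π.toRingHom) ≫ Spec.map (CommRingCat.ofHom (algebraMap k A)) =
        𝟙 (Spec (CommRingCat.of k)) := by
      rw [← Spec.map_comp, ← CommRingCat.ofHom_comp, π.toRingHom_eq_coe, AlgHom.comp_algebraMap]
      exact Spec.map_id _
    refine ⟨π, Over.homMk (U := 𝟙_ (Over (Spec (CommRingCat.of k)))) (V := T)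
      (Spec.map (CommRingCat.ofHom π.toRingHom)) w, rfl, hπ, ?_⟩
    refine PrimeSpectrum.ext ?_
    rw [← hπ, RingHom.ker_eq_comap_bot, ← IsLocalRing.maximalIdeal_eq_bot (R := k)]
    rfl
  -- the affine open meeting every component
  obtain ⟨n, O, hO, hcov⟩ : ∃ (n : ℕ) (O : Fin n → G.left.Opens), (∀ i, IsAffineOpen (O i)) ∧
      Set.range f ⊆ ⋃ i, (O i : Set G.left) := by
    obtain ⟨t, ht⟩ := (isCompact_range f.continuous).elim_finite_subcover
      (fun V : G.left.affineOpens => (V.1 : Set G.left)) (fun V => V.1.2) fun x _ => by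
        obtain ⟨_, ⟨V, hV, rfl⟩, hxV, -⟩ :=
          G.left.isBasis_affineOpens.exists_subset_of_mem_open (Set.mem_univ x) isOpen_univ
        exact Set.mem_iUnion.2 ⟨⟨V, hV⟩, hxV⟩
    refine ⟨t.card, fun i => (t.equivFin.symm i).1.1, fun i => (t.equivFin.symm i).1.2, fun x hx => ?_⟩
    obtain ⟨V, hVt, hxV⟩ := Set.mem_iUnion₂.1 (ht hx)
    exact Set.mem_iUnion.2 ⟨t.equivFin ⟨V, hVt⟩, by simp only [Equiv.symm_apply_apply]; exact hxV⟩
  let P : Fin n → Set G.left := fun i => {x | eta hrat x ∈ O i}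
  have hP : ∀ i, IsClopen (P i) := fun i => isClopen_saturation hrat (O i) (hO i)
  have hDc : ∀ i, IsClopen (P i \ ⋃ j ∈ Finset.univ.filter (· < i), P j) := fun i =>
    (hP i).diff (Set.Finite.isClopen_biUnion (Finset.finite_toSet _) fun j _ => hP j)
  let D : Fin n → G.left.Opens := fun i => ⟨_, (hDc i).2⟩
  let U : G.left.Opens := ⨆ i, O i ⊓ D i
  have hU : IsAffineOpen U := by
    refine IsAffineOpen.iSup_of_disjoint (fun i => isAffineOpen_inf_clopen (hO i) (D i) (hDc i).1) fun i j hij => ?_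
    rw [Function.onFun, ← TopologicalSpace.Opens.coe_disjoint, Set.disjoint_left]
    rintro x ⟨-, hxi, hxi'⟩ ⟨-, hxj, hxj'⟩
    rcases lt_or_gt_of_ne hij with h | h
    · exact hxj' (Set.mem_biUnion (by simpa using h) hxi)
    · exact hxi' (Set.mem_biUnion (by simpa using h) hxj)
  have hUeta : ∀ x ∈ Set.range f, eta hrat x ∈ U := by
    intro x hx
    obtain ⟨i, hi⟩ := Set.mem_iUnion.1 (hcov hx)
    have hne : (Finset.univ.filter fun j => x ∈ P j).Nonempty :=
      ⟨i, Finset.mem_filter.2 ⟨Finset.mem_univ _, (eta_specializes hrat x).mem_open (O i).2 hi⟩⟩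
    obtain ⟨j, hj, hjmin⟩ := Finset.exists_min_image _ id hne
    have hj' : x ∈ P j := by simpa using hj
    have hxD : x ∈ (D j : Set G.left) := by
      refine ⟨hj', fun h => ?_⟩
      obtain ⟨l, hl, hxl⟩ := Set.mem_iUnion₂.1 h
      exact absurd (hjmin l (by simpa using hxl)) (not_le.2 (by simpa using hl))
    exact TopologicalSpace.Opens.mem_iSup.2
      ⟨j, hj', (eta_specializes hrat x).mem_open (D j).2 hxD⟩
  -- translating into it
  let m : T ⊗ G ⟶ G := (fst T G ≫ F) * snd T G
  haveI : UniversallyClosed T.hom := by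
    haveI : IsIntegralHom (Spec.map (CommRingCat.ofHom (algebraMap k A))) := by
      rw [IsIntegralHom.SpecMap_iff]
      intro a
      obtain ⟨B, n, hB, ⟨e⟩⟩ := hA {a}
      haveI : Module.Finite k B := Module.Finite.equiv e.symm.toLinearEquiv
      exact (Algebra.IsIntegral.isIntegral (R := k) (⟨a, hB (by simp)⟩ : B)).map B.val
    exact inferInstanceAs (UniversallyClosed (Spec.map (CommRingCat.ofHom (algebraMap k A))))
  have hclosed : IsClosedMap (snd T G).left := (pullback.snd T.hom G.hom).isClosedMap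
  let Ω : G.left.Opens := ⟨((snd T G).left '' (m.left ⁻¹' (U : Set G.left))ᶜ)ᶜ,
    (hclosed _ (U.2.preimage m.left.continuous).isClosed_compl).isOpen_compl⟩
  let ηH := eta hrat (H19Grp.ept G)
  have hηΩ : ηH ∈ Ω := by
    rintro ⟨z, hz, hzη⟩
    refine hz (?_ : m.left z ∈ U)
    let Z : Over (Spec (CommRingCat.of k)) := Over.mk ((T ⊗ G).left.fromSpecResidueField z ≫ (T ⊗ G).hom)
    let zh : Z ⟶ T ⊗ G := Over.homMk ((T ⊗ G).left.fromSpecResidueField z) rfl
    let p : Spec (CommRingCat.of A) := (fst T G).left z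
    obtain ⟨π, sp, hsp, hπ, hptp⟩ := hpts p
    have hz1 : zh ≫ fst T G = toUnit Z ≫ sp := by
      refine Over.OverMorphism.ext ?_
      obtain ⟨χ, hχ⟩ := Spec.map_surjective ((zh ≫ fst T G).left)
      obtain ⟨ψ, hψ⟩ := Spec.map_surjective Z.hom
      rw [Over.comp_left (f := toUnit Z), show (toUnit Z).left = Z.hom from
        (Category.comp_id _).symm.trans (Over.w (toUnit Z)), hsp, ← hψ, ← hχ]
      refine (congrArg Spec.map ?_).trans (Spec.map_comp _ _)
      have hw : CommRingCat.ofHom (algebraMap k A) ≫ χ = ψ := by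
        refine Spec.map_injective ?_
        rw [Spec.map_comp, hχ, hψ]
        exact Over.w (zh ≫ fst T G)
      have hker : ∀ a ∈ p.asIdeal, χ.hom a = 0 := by
        intro a ha
        let q : PrimeSpectrum ((T ⊗ G).left.residueField z) := ⟨⊥, Ideal.isPrime_bot⟩
        have e : Spec.map χ q = p := by
          rw [hχ]
          exact congrArg (fst T G).left ((T ⊗ G).left.fromSpecResidueField_apply z q)
        rw [← e] at ha
        exact ha
      ext a
      have h2 : a - algebraMap k A (π a) ∈ p.asIdeal := by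
        rw [← hπ, RingHom.mem_ker]
        exact (map_sub π _ _).trans (by rw [AlgHom.commutes]; exact sub_self _)
      have h3 := hker _ h2
      rw [map_sub, sub_eq_zero] at h3
      exact h3.trans (RingHom.congr_fun (congrArg CommRingCat.Hom.hom hw) (π a))
    have hz2 : zh ≫ m = (zh ≫ snd T G) ≫ lam (sp ≫ F) := by
      rw [comp_lam, MonObj.comp_mul, ← Category.assoc, hz1, Category.assoc]
    let q₀ : Z.left := IsLocalRing.closedPoint _
    have e0 : zh.left q₀ = z := (T ⊗ G).left.fromSpecResidueField_apply z _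
    have e1 : m.left z = (lam (sp ≫ F)).left ηH := by
      rw [← hzη, ← e0]
      exact congrArg (fun φ : Z ⟶ G => φ.left q₀) hz2
    have e2 : pt (sp ≫ F) = f p := by rw [pt_comp, hptp]; rfl
    have e3 : (lam (sp ≫ F)).left ηH = eta hrat (pt (sp ≫ F)) := by
      refine (IsGenericPoint.eq ?_ (isGenericPoint_eta hrat (pt (sp ≫ F))))
      rw [← lam_component (sp ≫ F)]
      have := (isGenericPoint_eta hrat (H19Grp.ept G)).image (homeo (lam (sp ≫ F))).continuous
      rwa [((homeo (lam (sp ≫ F))).isClosedMap _ isClosed_connectedComponent).closure_eq, homeo_apply] at this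
    rw [e1, e3, e2]
    exact hUeta _ ⟨p, rfl⟩
  obtain ⟨h, hh, -⟩ := exists_pt_mem hrat Ω.2.isLocallyClosed ⟨ηH, hηΩ⟩
  haveI : IsIso (rho h).left := (inferInstance : IsIso ((Over.forget _).map (rho h)))
  refine ⟨(rho h).left ⁻¹ᵁ U, hU.preimage_of_isIso _, ?_⟩
  rintro _ ⟨p, rfl⟩
  obtain ⟨π, sp, -, -, hptp⟩ := hpts p
  have h1 : m.left (pt (CartesianMonoidalCategory.lift sp h)) ∈ U := by
    by_contra h2
    refine hh ⟨_, h2, ?_⟩
    rw [← pt_comp, lift_snd]
  rw [← pt_comp, MonObj.comp_mul, lift_fst_assoc, lift_snd, ← rho_pt, pt_comp, hptp] at h1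
  exact h1

end Groth.Agent.H23Dom.AffNbhd
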