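import Mathlib
import Groth.Agent.H02CA.ColimRegular
import Groth.Agent.H06QR.Regular
set_option linter.style.haveILetI false

/-! Injectivity on cotangent spaces and injectivity of local homomorphisms. -/

universe u

open IsLocalRing

namespace Groth.Agent.H23Dom

/-- A local map into a regular local ring which is injective on cotangent spaces is injective. -/
theorem injective_of_cotangent_injective {A B : Type u} [CommRing A] [IsLocalRing A] [IsNoetherianRing A]
    [CommRing B] [IsRegularLocalRing B] (φ : A →+* B) [IsLocalHom φ]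
    (hres : ∀ y : B, ∃ x : A, y - φ x ∈ maximalIdeal B)
    (h : ∀ a ∈ maximalIdeal A, φ a ∈ maximalIdeal B ^ 2 → a ∈ maximalIdeal A ^ 2) :
    Function.Injective φ := by
  classical
  -- a minimal generating family of the maximal ideal
  let bA := Module.finBasis (ResidueField A) (CotangentSpace A)
  choose a ha using fun i => (maximalIdeal A).toCotangent_surjective (bA i)
  have hspan : Ideal.span (Set.range fun i => (a i : A)) = maximalIdeal A := by
    have h1 : Submodule.span (ResidueField A) ((maximalIdeal A).toCotangent '' Set.range a) = ⊤ := by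
      rw [← Set.range_comp, show ((maximalIdeal A).toCotangent ∘ a) = bA from funext ha, bA.span_eq]
    rw [CotangentSpace.span_image_eq_top_iff] at h1
    have := congrArg (Submodule.map (maximalIdeal A).subtype) h1
    rw [Submodule.map_span, Submodule.map_top, Submodule.range_subtype, ← Set.range_comp] at this
    exact this
  have hφm : ∀ x ∈ maximalIdeal A, φ x ∈ maximalIdeal B := fun x hx => by
    rw [mem_maximalIdeal, mem_nonunits_iff] at hx ⊢
    exact fun hu => hx (isUnit_of_map_unit φ x hu)
  let b : Fin _ → B := fun i => φ (a i)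
  have hb : Ideal.span (Set.range b) ≤ maximalIdeal B :=
    Ideal.span_le.2 (by rintro _ ⟨i, rfl⟩; exact hφm _ (a i).2)
  -- linear coefficients
  have hlin : ∀ c : Fin (Module.finrank (ResidueField A) (CotangentSpace A)) → A,
      φ (∑ i, c i * a i) ∈ maximalIdeal B ^ 2 → ∀ i, c i ∈ maximalIdeal A := by
    intro c hc i
    have hm : ∑ i, c i * (a i : A) ∈ maximalIdeal A :=
      sum_mem fun i _ => Ideal.mul_mem_left _ _ (a i).2
    have h2 := h _ hm hc
    have h3 : ∑ i, residue A (c i) • bA i = 0 := by
      have h4 : (maximalIdeal A).toCotangent (∑ i, c i • a i) = 0 := by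
        rw [Ideal.toCotangent_eq_zero]
        simpa [Submodule.coe_smul, AddSubmonoidClass.coe_finsetSum] using h2
      rw [map_sum] at h4
      rw [← h4]
      refine Finset.sum_congr rfl fun i _ => ?_
      rw [map_smul, ha, ← IsScalarTower.algebraMap_smul (ResidueField A) (c i) (bA i)]
      rfl
    have h5 := Fintype.linearIndependent_iff.1 bA.linearIndependent _ h3 i
    rwa [residue_eq_zero_iff] at h5
  -- the images form part of a regular system of parameters
  have hli : LinearIndependent (ResidueField B) fun i =>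
      (maximalIdeal B).toCotangent ⟨b i, hφm _ (a i).2⟩ := by
    rw [Fintype.linearIndependent_iff]
    intro c hc i
    choose c' hc' using fun i => residue_surjective (c i)
    have h4 : ∑ i, c' i * b i ∈ maximalIdeal B ^ 2 := by
      have h5 : (maximalIdeal B).toCotangent
          (∑ i, c' i • (⟨b i, hφm _ (a i).2⟩ : maximalIdeal B)) = 0 := by
        rw [map_sum, ← hc]
        refine Finset.sum_congr rfl fun i _ => ?_
        rw [map_smul, ← IsScalarTower.algebraMap_smul (ResidueField B) (c' i), ← hc' i]
        rfl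
      rw [Ideal.toCotangent_eq_zero] at h5
      simpa [Submodule.coe_smul, AddSubmonoidClass.coe_finsetSum] using h5
    choose x hx using fun i => hres (c' i)
    have h6 : φ (∑ i, x i * a i) ∈ maximalIdeal B ^ 2 := by
      have : φ (∑ i, x i * a i) = ∑ i, c' i * b i - ∑ i, (c' i - φ (x i)) * b i := by
        simp only [map_sum, map_mul, sub_mul, Finset.sum_sub_distrib, b]
        abel
      rw [this, sq]
      exact sub_mem (sq (maximalIdeal B) ▸ h4)
        (sum_mem fun i _ => Ideal.mul_mem_mul (hx i) (hφm _ (a i).2))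
    rw [← hc' i, residue_eq_zero_iff, show c' i = (c' i - φ (x i)) + φ (x i) by ring]
    exact add_mem (hx i) (hφm _ (hlin x h6 i))
  have hq : CAlgX.IsQuasiRegular b :=
    H06QR.Regular.isQuasiRegular_of_isWeaklyRegular b
      (H02CA.ColimRegular.isWeaklyRegular_of_linearIndependent B (fun i => ⟨b i, hφm _ (a i).2⟩) hli)
  have key : ∀ z, φ z = 0 → ∀ n : ℕ, z ∈ maximalIdeal A ^ n := by
    intro z hz n
    induction n with
    | zero => simp
    | succ n ih =>
      rw [← hspan] at ih ⊢
      obtain ⟨P, hP, hPe⟩ := H06QR.exists_homogeneous (fun i => (a i : A)) ih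
      have h1 : MvPolynomial.eval b (P.map φ) = 0 := by
        rw [MvPolynomial.eval_map, ← hz, ← hPe, show b = φ ∘ fun i => (a i : A) from rfl,
          MvPolynomial.eval₂_comp]
      have h2 := hq n (P.map φ) (hP.map φ) (by rw [h1]; exact zero_mem _)
      rw [← hPe, pow_succ']
      refine H06QR.Regular.eval_mem_mul _ hP fun d => ?_
      rw [hspan, mem_maximalIdeal, mem_nonunits_iff]
      intro hu
      have h3 := hb (h2 d)
      rw [MvPolynomial.coeff_map, mem_maximalIdeal, mem_nonunits_iff] at h3
      exact h3 (hu.map φ)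
  rw [injective_iff_map_eq_zero]
  intro z hz
  have := Ideal.iInf_pow_eq_bot_of_isLocalRing (R := A) (maximalIdeal A) (maximalIdeal.isMaximal A).ne_top
  exact (Submodule.mem_bot A).1 (this ▸ Submodule.mem_iInf _ |>.2 (key z hz))

/-- A formally smooth local map, surjective on residue fields, is injective on cotangent spaces. -/
theorem cotangent_injective_of_formallySmooth {A B : Type u} [CommRing A] [IsLocalRing A]
    [CommRing B] [IsLocalRing B] (φ : A →+* B) [IsLocalHom φ] (hφ : φ.FormallySmooth)
    (hres : ∀ y : B, ∃ x : A, y - φ x ∈ maximalIdeal B) (a : A) (_ : a ∈ maximalIdeal A)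
    (h : φ a ∈ maximalIdeal B ^ 2) : a ∈ maximalIdeal A ^ 2 := by
  algebraize [φ]
  haveI : IsLocalHom (algebraMap A B) := ‹_›
  have hbij : Function.Bijective (ResidueField.map φ) := by
    refine ⟨(ResidueField.map φ).injective, fun z => ?_⟩
    obtain ⟨y, rfl⟩ := residue_surjective z
    obtain ⟨x, hx⟩ := hres y
    refine ⟨residue A x, ?_⟩
    rw [ResidueField.map_residue]
    exact ((Ideal.Quotient.eq).2 hx).symm
  let e : A ⧸ maximalIdeal A ≃+* B ⧸ maximalIdeal B := RingEquiv.ofBijective (ResidueField.map φ) hbij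
  let f : B →ₐ[A] A ⧸ maximalIdeal A :=
    { (e.symm : B ⧸ maximalIdeal B →+* A ⧸ maximalIdeal A).comp (Ideal.Quotient.mk (maximalIdeal B)) with
      commutes' := fun x => e.injective <| by
        show e (e.symm (Ideal.Quotient.mk _ (φ x))) = e (Ideal.Quotient.mk _ x)
        rw [RingEquiv.apply_symm_apply]
        rfl }
  have hle : maximalIdeal A ^ 2 ≤ maximalIdeal A := Ideal.pow_le_self two_ne_zero
  let g : (A ⧸ maximalIdeal A ^ 2) →ₐ[A] A ⧸ maximalIdeal A := Ideal.Quotient.factorₐ A hle
  have hg : Function.Surjective g := Ideal.Quotient.factor_surjective hle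
  have hker : RingHom.ker (g : (A ⧸ maximalIdeal A ^ 2) →+* A ⧸ maximalIdeal A) ≤
      (maximalIdeal A).map (Ideal.Quotient.mk (maximalIdeal A ^ 2)) := by
    intro z hz
    obtain ⟨z, rfl⟩ := Ideal.Quotient.mk_surjective z
    exact Ideal.mem_map_of_mem _ (Ideal.Quotient.eq_zero_iff_mem.1 hz)
  have hnil : IsNilpotent (RingHom.ker (g : (A ⧸ maximalIdeal A ^ 2) →+* A ⧸ maximalIdeal A)) := by
    refine ⟨2, le_bot_iff.1 ((Ideal.pow_right_mono hker 2).trans ?_)⟩
    rw [← Ideal.map_pow, Ideal.map_quotient_self]
  let σ := Algebra.FormallySmooth.liftOfSurjective f g hg hnil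
  have hσ : ∀ y ∈ maximalIdeal B,
      σ y ∈ (maximalIdeal A).map (Ideal.Quotient.mk (maximalIdeal A ^ 2)) := by
    intro y hy
    refine hker (show g (σ y) = 0 from ?_)
    refine (Algebra.FormallySmooth.liftOfSurjective_apply f g hg hnil y).trans ?_
    show e.symm (Ideal.Quotient.mk _ y) = 0
    rw [Ideal.Quotient.eq_zero_iff_mem.2 hy, map_zero]
  have h0 : σ (φ a) = 0 := by
    have h1 : (maximalIdeal B).map (σ : B →+* A ⧸ maximalIdeal A ^ 2) ≤
        (maximalIdeal A).map (Ideal.Quotient.mk (maximalIdeal A ^ 2)) :=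
      Ideal.map_le_iff_le_comap.2 hσ
    have h2 := Ideal.mem_map_of_mem (σ : B →+* A ⧸ maximalIdeal A ^ 2) h
    rw [Ideal.map_pow] at h2
    have h3 := Ideal.pow_right_mono h1 2 h2
    rw [← Ideal.map_pow, Ideal.map_quotient_self] at h3
    exact h3
  rw [show φ a = algebraMap A B a from rfl, σ.commutes] at h0
  exact Ideal.Quotient.eq_zero_iff_mem.1 h0

end Groth.Agent.H23Dom
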