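import Mathlib
import Groth.Agent.H23Dom.Alg
import Groth.Agent.H4Depth.Regular
import Groth.Agent.H19Grp.RegularSmooth
import Groth.Agent.H22Alg.FibreCount
set_option linter.style.haveILetI false

/-! Dominant morphisms of varieties and cotangent spaces at closed points. -/

universe u

open CategoryTheory AlgebraicGeometry IsLocalRing

namespace Groth.Agent.H23Dom

variable {k : Type u} [Field k]

/-- At a closed point of a scheme of finite type over an algebraically closed field every element
of the residue field comes from the base. -/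
theorem exists_sub_stalkMap_mem [IsAlgClosed k] {X : Scheme.{u}}
    (s : X ⟶ Spec (CommRingCat.of k)) [LocallyOfFiniteType s] {P : X} (hP : IsClosed ({P} : Set X))
    (y : X.presheaf.stalk P) :
    ∃ c, y - (s.stalkMap P).hom c ∈ maximalIdeal (X.presheaf.stalk P) := by
  haveI : IsClosedImmersion (X.fromSpecResidueField P) :=
    IsClosedImmersion.of_isPreimmersion _ (by rwa [Scheme.range_fromSpecResidueField])
  obtain ⟨φ, hφ⟩ := Spec.map_surjective (X.fromSpecResidueField P ≫ s)
  have hlft : LocallyOfFiniteType (Spec.map φ) := by rw [hφ]; infer_instance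
  have hft : φ.hom.FiniteType := HasRingHomProperty.Spec_iff.mp hlft
  algebraize [φ.hom]
  haveI : Module.Finite k (X.residueField P) := finite_of_finite_type_of_isJacobsonRing k (X.residueField P)
  have hbij : Function.Bijective (algebraMap k (X.residueField P)) :=
    IsAlgClosed.algebraMap_bijective_of_isIntegral (k := k)
  obtain ⟨c, hc⟩ := hbij.2 ((X.residue P).hom y)
  have hφ' : φ = ((Scheme.ΓSpecIso (CommRingCat.of k)).inv ≫
      (Spec (CommRingCat.of k)).presheaf.germ ⊤ (s P) trivial) ≫ s.stalkMap P ≫ X.residue P := by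
    refine Spec.map_injective ?_
    rw [hφ, Spec.map_comp, ← Spec.fromSpecStalk_eq, Spec.map_comp, Category.assoc,
      Scheme.SpecMap_stalkMap_fromSpecStalk, Scheme.fromSpecResidueField, Category.assoc]
  have key : ∀ c : k, φ.hom c = (X.residue P).hom ((s.stalkMap P).hom
      (((Spec (CommRingCat.of k)).presheaf.germ ⊤ (s P) trivial).hom
        ((Scheme.ΓSpecIso (CommRingCat.of k)).inv.hom c))) := by
    intro c
    rw [hφ']
    rfl
  refine ⟨(((Spec (CommRingCat.of k)).presheaf.germ ⊤ (s P) trivial).hom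
        ((Scheme.ΓSpecIso (CommRingCat.of k)).inv.hom c)), ?_⟩
  rw [← residue_eq_zero_iff, map_sub, sub_eq_zero]
  exact hc.symm.trans (key c)

variable {X Y : Scheme.{u}}

theorem dominant_of_point [IsAlgClosed k] [IsIntegral Y] (sY : Y ⟶ Spec (CommRingCat.of k))
    [LocallyOfFiniteType sY] (u : X ⟶ Y) [LocallyOfFiniteType (u ≫ sY)] {P : X}
    (hP : IsClosed ({P} : Set X)) (hreg : IsRegularLocalRing (X.presheaf.stalk P))
    (h : ∀ a ∈ maximalIdeal (Y.presheaf.stalk (u P)),
      (u.stalkMap P).hom a ∈ maximalIdeal (X.presheaf.stalk P) ^ 2 →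
        a ∈ maximalIdeal (Y.presheaf.stalk (u P)) ^ 2) : IsDominant u := by
  haveI := hreg
  haveI : IsLocallyNoetherian Y := LocallyOfFiniteType.isLocallyNoetherian sY
  haveI : IsDomain (X.presheaf.stalk P) := H4Depth.isDomain_of_isRegularLocalRing _
  have hinj : Function.Injective (u.stalkMap P).hom := by
    refine injective_of_cotangent_injective (u.stalkMap P).hom (fun y => ?_) h
    obtain ⟨c, hc⟩ := exists_sub_stalkMap_mem (u ≫ sY) hP y
    refine ⟨(sY.stalkMap (u P)).hom c, ?_⟩
    rw [Scheme.Hom.stalkMap_comp] at hc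
    exact hc
  let qb : Spec (X.presheaf.stalk P) := ⟨⊥, Ideal.isPrime_bot⟩
  have hmem : genericPoint Y ∈ Set.range u := by
    refine ⟨X.fromSpecStalk P qb, ?_⟩
    rw [← Scheme.Hom.comp_apply, ← Scheme.SpecMap_stalkMap_fromSpecStalk, Scheme.Hom.comp_apply]
    obtain ⟨q, hq⟩ : genericPoint Y ∈ Set.range (Y.fromSpecStalk (u P)) := by
      rw [Scheme.range_fromSpecStalk]
      exact genericPoint_specializes _
    refine Specializes.antisymm ?_ (genericPoint_specializes _) |>.eq
    rw [← hq]
    refine Specializes.map ((PrimeSpectrum.le_iff_specializes _ _).1 ?_) (Y.fromSpecStalk (u P)).continuous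
    intro a ha
    have : (u.stalkMap P).hom a = 0 := ha
    rw [← map_zero (u.stalkMap P).hom] at this
    rw [hinj this]
    exact zero_mem _
  refine ⟨fun y => ?_⟩
  have : y ∈ closure ({genericPoint Y} : Set Y) := by
    rw [genericPoint_closure]; trivial
  exact closure_mono (Set.singleton_subset_iff.2 hmem) this

theorem mem_smoothLocus_of_isField [CharZero k] (f : X ⟶ Y) [LocallyOfFinitePresentation f] (η : X)
    (hK : IsField (Y.presheaf.stalk (f η))) (hL : IsField (X.presheaf.stalk η))
    (ψ : k →+* Y.presheaf.stalk (f η)) : η ∈ f.smoothLocus := by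
  rw [Scheme.Hom.mem_smoothLocus]
  have := LocallyOfFiniteType.stalkMap f η
  letI := hK.toField
  letI := hL.toField
  haveI : CharZero (Y.presheaf.stalk (f η)) := charZero_of_injective_ringHom ψ.injective
  algebraize [(f.stalkMap η).hom]
  exact Algebra.FormallySmooth.of_perfectField

theorem exists_point_of_dominant [IsAlgClosed k] [CharZero k] [AlgebraicGeometry.IsReduced X] [IsIntegral Y]
    (sY : Y ⟶ Spec (CommRingCat.of k)) [LocallyOfFiniteType sY] [QuasiCompact sY]
    (u : X ⟶ Y) [LocallyOfFiniteType (u ≫ sY)] [QuasiCompact (u ≫ sY)] [IsDominant u] :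
    ∃ P : X, IsClosed ({P} : Set X) ∧ IsRegularLocalRing (X.presheaf.stalk P) ∧
      ∀ a ∈ maximalIdeal (Y.presheaf.stalk (u P)),
        (u.stalkMap P).hom a ∈ maximalIdeal (X.presheaf.stalk P) ^ 2 →
          a ∈ maximalIdeal (Y.presheaf.stalk (u P)) ^ 2 := by
  haveI : IsLocallyNoetherian Y := LocallyOfFiniteType.isLocallyNoetherian sY
  haveI : IsLocallyNoetherian X := LocallyOfFiniteType.isLocallyNoetherian (u ≫ sY)
  haveI : LocallyOfFiniteType u := locallyOfFiniteType_of_comp u sY
  haveI : QuasiSeparated sY := inferInstance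
  haveI : QuasiCompact u := QuasiCompact.of_comp u sY
  -- a generic point of `X` over the generic point of `Y`
  obtain ⟨x, hx⟩ : ∃ x, u x = genericPoint Y :=
    H22Alg.FibreCount.genericPoint_mem_range sY u u.denseRange (by
      rw [genericPoints_eq_singleton]; rfl)
  obtain ⟨η, hη⟩ := QuasiSober.sober isIrreducible_irreducibleComponent
    (isClosed_irreducibleComponent (x := x))
  have hηx : η ⤳ x := hη.specializes mem_irreducibleComponent
  have huη : u η = genericPoint Y :=
    ((hηx.map u.continuous).trans (hx ▸ specializes_rfl)).antisymm (genericPoint_specializes _) |>.eq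
  have hηc : closure {η} ∈ irreducibleComponents X := by
    rw [hη]; exact irreducibleComponent_mem_irreducibleComponents x
  -- the stalks at the generic points
  have hL := isField_stalk_of_closure_mem_irreducibleComponents X η hηc
  have hK : IsField (Y.presheaf.stalk (u η)) := by
    rw [huη]; exact Field.toIsField Y.functionField
  have hη1 : η ∈ u.smoothLocus := mem_smoothLocus_of_isField u η hK hL
    (((Scheme.ΓSpecIso (CommRingCat.of k)).inv ≫
      (Spec (CommRingCat.of k)).presheaf.germ ⊤ (sY (u η)) trivial) ≫ sY.stalkMap (u η)).hom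
  have hη2 : η ∈ (u ≫ sY).smoothLocus := by
    refine mem_smoothLocus_of_isField (u ≫ sY) η ?_ hL ((Scheme.ΓSpecIso (CommRingCat.of k)).inv ≫
      (Spec (CommRingCat.of k)).presheaf.germ ⊤ ((u ≫ sY) η) trivial).hom
    refine isField_stalk_of_closure_mem_irreducibleComponents _ _ ?_
    rw [show closure {(u ≫ sY) η} = (Set.univ : Set (Spec (CommRingCat.of k))) from
      Set.eq_univ_of_forall fun z => (Subsingleton.elim (α := PrimeSpectrum k) z ((u ≫ sY) η)) ▸ subset_closure rfl]
    simp [irreducibleComponents_eq_singleton]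
  obtain ⟨P, ⟨hP1, hP2⟩, hPc⟩ := H22Alg.FibreCount.exists_closed_point (u ≫ sY)
    (u.smoothLocus.2.inter (u ≫ sY).smoothLocus.2) ⟨η, hη1, hη2⟩
  refine ⟨P, hPc, ?_, ?_⟩
  · haveI : Smooth ((u ≫ sY).smoothLocus.ι ≫ (u ≫ sY)) := by
      rw [← Scheme.Hom.smoothLocus_eq_top_iff, ← Scheme.Hom.preimage_smoothLocus_eq (u ≫ sY).smoothLocus.ι (u ≫ sY)]
      exact Scheme.Opens.ι_preimage_self _
    have := H19Grp.isRegularLocalRing_stalk_of_smooth ((u ≫ sY).smoothLocus.ι ≫ (u ≫ sY)) ⟨P, hP2⟩
    exact IsRegularLocalRing.of_ringEquiv ((u ≫ sY).smoothLocus.stalkIso ⟨P, hP2⟩).commRingCatIsoToRingEquiv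
  · have hres : ∀ y, ∃ a, y - (u.stalkMap P).hom a ∈ maximalIdeal (X.presheaf.stalk P) := fun y => by
      obtain ⟨c, hc⟩ := exists_sub_stalkMap_mem (u ≫ sY) hPc y
      rw [Scheme.Hom.stalkMap_comp] at hc
      exact ⟨_, hc⟩
    exact fun a => cotangent_injective_of_formallySmooth (u.stalkMap P).hom hP1 hres a

end Groth.Agent.H23Dom
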