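import Mathlib
import Groth.Agent.H11Val.KrullAkizuki
set_option linter.style.haveILetI false

/-! Noetherianity of integral closures in reduced base changes. -/

universe u

open TensorProduct

namespace Groth.Agent.H23Dom

/-- Krull–Akizuki for a one-dimensional domain integral over a base. -/
theorem isNoetherianRing_integralClosure_field {B C L : Type u} [CommRing B] [IsDomain B]
    [Ring.DimensionLEOne B] [CommRing C] [IsDomain C] [IsNoetherianRing C] [Field L]
    [Algebra B C] [Algebra C L] [Algebra B L] [IsScalarTower B C L] [Algebra.IsIntegral B C]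
    [IsFractionRing C L] : IsNoetherianRing (integralClosure B L) := by
  have hD : ∀ c : C, c ≠ 0 → IsFiniteLength C (C ⧸ Ideal.span {c}) := by
    intro c hc
    haveI : Ring.KrullDimLE 0 (C ⧸ Ideal.span {c}) := by
      refine Ring.krullDimLE_zero_iff.2 fun P hP => ?_
      have hcP : c ∈ P.comap (Ideal.Quotient.mk (Ideal.span {c})) := by
        rw [Ideal.mem_comap, Ideal.Quotient.eq_zero_iff_mem.2 (Ideal.mem_span_singleton_self c)]
        exact zero_mem _
      have hne := Ideal.comap_ne_bot_of_integral_mem hc hcP (Algebra.IsIntegral.isIntegral (R := B) c)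
      haveI := Ideal.IsPrime.comap (Ideal.Quotient.mk (Ideal.span {c})) (K := P)
      have hmax : ((P.comap (Ideal.Quotient.mk (Ideal.span {c}))).comap (algebraMap B C)).IsMaximal :=
        (Ideal.IsPrime.comap _).isMaximal hne
      have := Ideal.isMaximal_of_isIntegral_of_isMaximal_comap _ hmax
      have h2 := Ideal.map_eq_top_or_isMaximal_of_surjective (Ideal.Quotient.mk (Ideal.span {c}))
        Ideal.Quotient.mk_surjective this
      rw [Ideal.map_comap_of_surjective _ Ideal.Quotient.mk_surjective] at h2
      exact h2.resolve_left hP.ne_top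
    haveI : IsArtinianRing (C ⧸ Ideal.span {c}) := IsNoetherianRing.isArtinianRing_of_krullDimLE_zero
    rw [isFiniteLength_iff_isNoetherian_isArtinian]
    exact ⟨inferInstance, isArtinian_of_surjective_algebraMap (R := C ⧸ Ideal.span {c}) (S := C) Ideal.Quotient.mk_surjective⟩
  let S : Subalgebra C L :=
    { (integralClosure B L).toSubsemiring with
      algebraMap_mem' := fun c => (Algebra.IsIntegral.isIntegral (R := B) c).map (IsScalarTower.toAlgHom B C L) }
  haveI := H11Val.isNoetherianRing_subalgebra (D := C) hD L (L := L) S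
  exact isNoetherianRing_of_ringEquiv S
    { toFun := fun x => ⟨x.1, x.2⟩, invFun := fun x => ⟨x.1, x.2⟩, left_inv := fun _ => rfl,
      right_inv := fun _ => rfl, map_mul' := fun _ _ => rfl, map_add' := fun _ _ => rfl }

theorem noetherian_integralClosure {A B K L : Type u} [CommRing A] [IsDomain A]
    [CommRing B] [IsDomain B] [Ring.DimensionLEOne B] [Algebra A B]
    [Algebra.EssFiniteType A B]
    [Field K] [Field L] [Algebra A K] [IsFractionRing A K] [Algebra B L] [IsFractionRing B L]
    [Algebra K L] [Algebra A L] [IsScalarTower A K L] [IsScalarTower A B L]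
    {K' : Type u} [Field K'] [Algebra K K'] [Algebra A K'] [IsScalarTower A K K'] [Algebra.IsAlgebraic K K']
    (hA' : IsNoetherianRing (integralClosure A K'))
    {L' : Type u} [CommRing L'] [IsReduced L'] [Algebra K L'] [Algebra L L'] [Algebra K' L'] [Algebra B L']
    [IsScalarTower K L L'] [IsScalarTower K K' L'] [IsScalarTower B L L']
    (q : L ⊗[K] K' →ₐ[K] L') (hq : Function.Surjective q)
    (hqL : ∀ y : L, q (y ⊗ₜ 1) = algebraMap L L' y) (hqK : ∀ z : K', q (1 ⊗ₜ z) = algebraMap K' L' z) :
    IsNoetherianRing (integralClosure B L') := by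
  classical
  haveI := hA'
  letI : Algebra A L' := ((algebraMap K L').comp (algebraMap A K)).toAlgebra
  haveI : IsScalarTower A K L' := IsScalarTower.of_algebraMap_eq fun _ => rfl
  haveI : IsScalarTower A B L' := IsScalarTower.of_algebraMap_eq fun a => by
    rw [IsScalarTower.algebraMap_apply B L L', ← IsScalarTower.algebraMap_apply A B L,
      IsScalarTower.algebraMap_apply A K L, ← IsScalarTower.algebraMap_apply K L L']
    rfl
  haveI : IsScalarTower A K' L' := IsScalarTower.of_algebraMap_eq fun a => by
    rw [IsScalarTower.algebraMap_apply A K K', ← IsScalarTower.algebraMap_apply K K' L']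
    rfl
  -- `L'` is a finite product of fields
  haveI : Algebra.EssFiniteType B L := Algebra.EssFiniteType.of_isLocalization L (nonZeroDivisors B)
  haveI : Algebra.EssFiniteType A L := Algebra.EssFiniteType.comp A B L
  haveI : Algebra.EssFiniteType K L := Algebra.EssFiniteType.of_comp A K L
  haveI : IsNoetherianRing (L ⊗[K] K') :=
    haveI := Algebra.EssFiniteType.isNoetherianRing K' (K' ⊗[K] L)
    isNoetherianRing_of_ringEquiv (K' ⊗[K] L) (Algebra.TensorProduct.comm K K' L).toRingEquiv
  haveI : IsNoetherianRing L' := isNoetherianRing_of_surjective _ _ q.toRingHom hq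
  haveI : Algebra.IsIntegral L L' := by
    refine ⟨fun x => ?_⟩
    obtain ⟨t, rfl⟩ := hq x
    induction t using TensorProduct.induction_on with
    | zero => rw [map_zero]; exact isIntegral_zero
    | add s t hs ht => rw [map_add]; exact hs.add ht
    | tmul y z =>
      rw [show y ⊗ₜ[K] z = (y ⊗ₜ 1) * (1 ⊗ₜ z) by simp, map_mul, hqL, hqK]
      refine isIntegral_algebraMap.mul ?_
      exact (((Algebra.IsAlgebraic.isAlgebraic (R := K) z).isIntegral).map
        (IsScalarTower.toAlgHom K K' L')).tower_top
  haveI : Ring.KrullDimLE 0 L' := by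
    refine Ring.krullDimLE_zero_iff.2 fun P hP => ?_
    refine Ideal.isMaximal_of_isIntegral_of_isMaximal_comap (R := L) P ?_
    rcases Ideal.eq_bot_or_top (P.comap (algebraMap L L')) with h | h
    · rw [h]; exact Ideal.bot_isMaximal
    · exact absurd h (Ideal.IsPrime.comap (algebraMap L L')).ne_top
  haveI : IsArtinianRing L' := IsNoetherianRing.isArtinianRing_of_krullDimLE_zero
  -- the image of `A' ⊗ B`
  let A' := integralClosure A K'
  let ψ : A' ⊗[A] B →ₐ[A] L' := Algebra.TensorProduct.productMap
    ((IsScalarTower.toAlgHom A K' L').comp A'.val) (IsScalarTower.toAlgHom A B L')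
  haveI : IsNoetherianRing (A' ⊗[A] B) := Algebra.EssFiniteType.isNoetherianRing A' (A' ⊗[A] B)
  have hψ : ∀ (a : A') (b : B), ψ (a ⊗ₜ b) = algebraMap K' L' a * algebraMap B L' b := fun a b => rfl
  have hint : ∀ t, IsIntegral B (ψ t) := by
    intro t
    induction t using TensorProduct.induction_on with
    | zero => rw [map_zero]; exact isIntegral_zero
    | add s t hs ht => rw [map_add]; exact hs.add ht
    | tmul a b =>
      rw [hψ]
      exact (((a.2).map (IsScalarTower.toAlgHom A K' L')).tower_top).mul isIntegral_algebraMap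
  have hden : ∀ x : L', ∃ b : B, b ≠ 0 ∧ ∃ t, ψ t = algebraMap B L' b * x := by
    intro x
    obtain ⟨s, rfl⟩ := hq x
    induction s using TensorProduct.induction_on with
    | zero => exact ⟨1, one_ne_zero, 0, by simp⟩
    | add s s' hs hs' =>
      obtain ⟨b, hb, t, ht⟩ := hs
      obtain ⟨b', hb', t', ht'⟩ := hs'
      refine ⟨b * b', mul_ne_zero hb hb', ((1 : A') ⊗ₜ b') * t + ((1 : A') ⊗ₜ b) * t', ?_⟩
      simp only [map_add, map_mul, hψ, ht, ht', OneMemClass.coe_one, map_one]
      ring
    | tmul y z =>
      obtain ⟨⟨b₀, c⟩, hc⟩ := IsLocalization.surj (nonZeroDivisors B) y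
      have hzA : IsAlgebraic A z :=
        ((IsFractionRing.comap_isAlgebraic_iff (A := A) (K := K) (C := K')).2 inferInstance).isAlgebraic z
      obtain ⟨a, ha0, ha⟩ := hzA.exists_integral_multiple
      have haB : algebraMap A B a ≠ 0 := fun h => by
        have h2 := congrArg (algebraMap B L) h
        rw [map_zero, ← IsScalarTower.algebraMap_apply, IsScalarTower.algebraMap_apply A K L,
          map_eq_zero, IsFractionRing.to_map_eq_zero_iff] at h2
        exact ha0 h2
      refine ⟨c.1 * algebraMap A B a, mul_ne_zero (nonZeroDivisors.ne_zero c.2) haB,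
        (⟨a • z, ha⟩ : A') ⊗ₜ b₀, ?_⟩
      rw [hψ, show y ⊗ₜ[K] z = (y ⊗ₜ 1) * (1 ⊗ₜ z) by simp, map_mul q, hqL, hqK, map_mul,
        ← IsScalarTower.algebraMap_apply A B L']
      show algebraMap K' L' (a • z) * algebraMap B L' b₀ = _
      rw [Algebra.smul_def, map_mul, ← IsScalarTower.algebraMap_apply A K' L',
        IsScalarTower.algebraMap_apply B L L' b₀, ← hc, map_mul, ← IsScalarTower.algebraMap_apply B L L']
      ring
  -- each factor
  have hfac : ∀ m : MaximalSpectrum L', IsNoetherianRing (integralClosure B (L' ⧸ m.asIdeal)) := by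
    intro m
    letI := Ideal.Quotient.field m.asIdeal
    let g : A' ⊗[A] B →+* L' ⧸ m.asIdeal := (Ideal.Quotient.mk m.asIdeal).comp ψ.toRingHom
    have hgB : ∀ b : B, g ((1 : A') ⊗ₜ b) = algebraMap B (L' ⧸ m.asIdeal) b := fun b => by
      show Ideal.Quotient.mk _ (ψ _) = _
      rw [hψ, OneMemClass.coe_one, map_one, one_mul]
      rfl
    have hBinj : Function.Injective (algebraMap B (L' ⧸ m.asIdeal)) := by
      rw [IsScalarTower.algebraMap_eq B L (L' ⧸ m.asIdeal)]
      exact (algebraMap L (L' ⧸ m.asIdeal)).injective.comp (IsFractionRing.injective B L)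
    letI : Algebra B g.range := ((algebraMap B (L' ⧸ m.asIdeal)).codRestrict g.range
      fun b => RingHom.mem_range.2 ⟨_, hgB b⟩).toAlgebra
    haveI : IsScalarTower B g.range (L' ⧸ m.asIdeal) := IsScalarTower.of_algebraMap_eq fun _ => rfl
    haveI : IsNoetherianRing g.range := isNoetherianRing_range g
    haveI : Algebra.IsIntegral B g.range := ⟨fun x => by
      obtain ⟨_, t, rfl⟩ := x
      refine (isIntegral_algHom_iff (IsScalarTower.toAlgHom B g.range (L' ⧸ m.asIdeal))
        Subtype.val_injective).1 ?_
      exact (hint t).map (Ideal.Quotient.mkₐ B m.asIdeal)⟩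
    haveI : IsFractionRing g.range (L' ⧸ m.asIdeal) := by
      refine IsFractionRing.of_field _ _ fun z => ?_
      obtain ⟨x, rfl⟩ := Ideal.Quotient.mk_surjective z
      obtain ⟨b, hb, t, ht⟩ := hden x
      refine ⟨⟨g t, t, rfl⟩, algebraMap B g.range b, ?_⟩
      show Ideal.Quotient.mk _ x = g t / algebraMap B (L' ⧸ m.asIdeal) b
      rw [eq_div_iff fun h => hb (hBinj (h.trans (map_zero _).symm))]
      show _ = Ideal.Quotient.mk _ (ψ t)
      rw [ht, map_mul, mul_comm]
      rfl
    exact isNoetherianRing_integralClosure_field (C := g.range)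
  haveI : ∀ m : MaximalSpectrum L', IsNoetherianRing (integralClosure B (L' ⧸ m.asIdeal)) := hfac
  let π : integralClosure B L' →+* Π m : MaximalSpectrum L', integralClosure B (L' ⧸ m.asIdeal) :=
    RingHom.pi fun m => ((Ideal.Quotient.mkₐ B m.asIdeal).restrictScalars B).mapIntegralClosure.toRingHom
  have hmk : ∀ x y : L', (∀ m : MaximalSpectrum L', Ideal.Quotient.mk m.asIdeal x =
      Ideal.Quotient.mk m.asIdeal y) → x = y := fun x y h =>
    (IsArtinianRing.equivPi L').injective (funext h)
  refine isNoetherianRing_of_ringEquiv _ (RingEquiv.ofBijective π ⟨fun x y h => ?_, fun v => ?_⟩).symm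
  · exact Subtype.ext (hmk _ _ fun m => congrArg Subtype.val (congrFun h m))
  · obtain ⟨x, hx⟩ := (IsArtinianRing.equivPi L').surjective fun m => (v m : L' ⧸ m.asIdeal)
    have hx' : ∀ m : MaximalSpectrum L', Ideal.Quotient.mk m.asIdeal x = (v m).1 := fun m => congrFun hx m
    haveI : Fintype (MaximalSpectrum L') := Fintype.ofFinite _
    choose p hp hp0 using fun m => (v m).2
    refine ⟨⟨x, ∏ m, p m, Polynomial.monic_prod_of_monic _ _ fun m _ => hp m, hmk _ _ fun m => ?_⟩,
      funext fun m => Subtype.ext (hx' m)⟩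
    rw [map_zero, Polynomial.eval₂_finsetProd, map_prod]
    refine Finset.prod_eq_zero (Finset.mem_univ m) ?_
    rw [Polynomial.hom_eval₂, hx']
    exact hp0 m

end Groth.Agent.H23Dom
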